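import Cfsg.Agent.Lib.Sp4Odd.R1.Basic

/-!
Characteristic three: an icosahedral pair of transvections does not occur in a group irreducible on four dimensions.
-/

set_option autoImplicit false
set_option linter.unusedSectionVars false
set_option maxHeartbeats 1000000

namespace CfsgLib.Sp4Odd.R1

open Matrix CfsgLib.Sp4Odd.Q

variable {F : Type*} [Field F]

local notation "V4" => (Fin 2 ⊕ Fin 2 → F)
local notation "G4" => Matrix.GeneralLinearGroup (Fin 2 ⊕ Fin 2) F
local notation "fs" => Cfsg.sympForm 2 F

variable {P : Subgroup (Matrix.GeneralLinearGroup (Fin 2 ⊕ Fin 2) F)}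

/-- The members of a group of order three. -/
theorem params_three {v : V4} (h : Nat.card (params P v) = 3) (h2 : (2 : F) ≠ 0) {c x : F} (hc : c ∈ params P v)
    (hc0 : c ≠ 0) (hx : x ∈ params P v) : x = 0 ∨ x = c ∨ x = -c := by
  classical
  haveI : Finite (params P v) := Nat.finite_of_card_ne_zero (by omega)
  let f : Fin 3 → params P v := ![0, ⟨c, hc⟩, ⟨-c, (params P v).neg_mem hc⟩]
  have hcne : c ≠ -c := fun e => hc0 ((mul_eq_zero.1 (show (2 : F) * c = 0 by linear_combination e)).resolve_left h2)
  have hinj : Function.Injective f := fun i j e => by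
    have e' := congrArg Subtype.val e
    fin_cases i <;> fin_cases j <;> simp [f, hc0, hc0.symm, hcne, hcne.symm] at e' ⊢
  have hbij : Function.Bijective f := hinj.bijective_of_nat_card_le (by rw [h, Nat.card_eq_fintype_card, Fintype.card_fin])
  obtain ⟨i, hi⟩ := hbij.2 ⟨x, hx⟩
  have := congrArg Subtype.val hi
  fin_cases i <;> simp [f] at this <;> simp [← this]

theorem tg_plane_a {a b : V4} (hab : fs a b = 1) (k α β : F) {n : V4} (hna : fs n a = 0) :
    (tg a k).1 *ᵥ (α • a + β • b + n) = (α - k * β) • a + β • b + n := by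
  rw [tg_apply, form_add_left, form_add_left, form_smul_left, form_smul_left, form_self', form_antisymm b a, hab, hna]
  module

theorem tg_plane_b {a b : V4} (hab : fs a b = 1) (k α β : F) {n : V4} (hnb : fs n b = 0) :
    (tg b k).1 *ᵥ (α • a + β • b + n) = α • a + (β + k * α) • b + n := by
  rw [tg_apply, form_add_left, form_add_left, form_smul_left, form_smul_left, form_self', hab, hnb]
  module

/-- The four conjugates of a centre over an icosahedral pair. -/
theorem four_orbit (hP : Setting P) (h3 : (3 : F) = 0) {a b : V4} {c d : F} (hab : fs a b = 1)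
    (hca : tg a c ∈ P) (hdb : tg b d ∈ P) (hi : c * d * (c * d) = -1) {l ce : F} {n : V4}
    (hna : fs n a = 0) (hnb : fs n b = 0) (he : tg (l • a + n) ce ∈ P) :
    tg n ce ∈ P ∧ tg a (ce * (l * l)) ∈ P := by
  set h := tg a c * tg b d * tg a (-c) * tg b (-d) * tg a c * tg b d with hh
  have hhP : h ∈ P := by
    refine P.mul_mem (P.mul_mem (P.mul_mem (P.mul_mem (P.mul_mem hca hdb) ?_) ?_) hca) hdb
    · rw [← tg_inv]; exact P.inv_mem hca
    · rw [← tg_inv]; exact P.inv_mem hdb
  have hact : ∀ s : F, h.1 *ᵥ (s • a + n) = (-(c * d) * s) • a + n := fun s => by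
    rw [show s • a + n = s • a + (0 : F) • b + n by simp, hh]
    simp only [gl_mul_apply, tg_plane_a hab _ _ _ hna, tg_plane_b hab _ _ _ hnb]
    match_scalars <;> first | ring1 | linear_combination (s * (1 - c * d)) * hi | linear_combination (-(s * (1 - c * d))) * hi | linear_combination (-(d * s)) * hi | linear_combination (d * s) * hi |
      linear_combination s * hi | linear_combination (-s) * hi | linear_combination (c * d * s) * hi |
      linear_combination (-(c * d * s)) * hi
  set i := c * d with hidef
  have h1 : tg ((-i * l) • a + n) ce ∈ P := hact l ▸ hP.conj_mem hhP he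
  have h2' : tg ((-l) • a + n) ce ∈ P := by
    have := hP.conj_mem hhP h1
    rwa [hact, show -i * (-i * l) = -l by linear_combination l * hi] at this
  have h3' : tg ((i * l) • a + n) ce ∈ P := by
    have := hP.conj_mem hhP h2'
    rwa [hact, show -i * -l = i * l by ring] at this
  have han : fs a n = 0 := by rw [form_antisymm, hna, neg_zero]
  have hn : tg n ce ∈ P := by
    have e : tg (l • a + n) ce * tg ((-i * l) • a + n) ce * tg ((-l) • a + n) ce * tg ((i * l) • a + n) ce = tg n ce :=
      gl_ext fun x => by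
        simp only [gl_mul_apply, tg_apply, form_add_left, form_add, form_smul_left, form_smul, form_self', hna, han,
          mul_zero, add_zero]
        match_scalars <;> first | ring1 | linear_combination (ce * fs x n) * h3 |
          linear_combination (2 * ce * fs x a * l * l) * hi | linear_combination (-2 * ce * fs x a * l * l) * hi
    rw [← e]
    exact P.mul_mem (P.mul_mem (P.mul_mem he h1) h2') h3'
  refine ⟨hn, ?_⟩
  have e : (tg (l • a + n) ce * tg ((-l) • a + n) ce * tg n ce)⁻¹ = tg a (ce * (l * l)) :=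
    inv_eq_of_mul_eq_one_right (gl_ext fun x => by
      simp only [gl_mul_apply, gl_one_apply, tg_apply, form_add_left, form_add, form_smul_left, form_smul, form_self',
        hna, han, mul_zero, add_zero]
      match_scalars <;> first | ring1 | linear_combination (ce * fs x n) * h3 |
        linear_combination (ce * (l * l) * fs x a) * h3)
  rw [← e]
  exact P.inv_mem (P.mul_mem (P.mul_mem he h2') hn)

theorem cube_fixed {x : F} (h : x ^ 3 = x) : x = 0 ∨ x = 1 ∨ x = -1 := by
  have : x * ((x - 1) * (x + 1)) = 0 := by linear_combination h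
  rcases mul_eq_zero.1 this with h | h
  · exact Or.inl h
  rcases mul_eq_zero.1 h with h | h
  · exact Or.inr (Or.inl (sub_eq_zero.1 h))
  · exact Or.inr (Or.inr (eq_neg_of_add_eq_zero_left h))

/-- The coordinates of a centre over an icosahedral pair lie in the field with nine elements. -/
theorem rational (h3 : (3 : F) = 0) {i E X w : F} (hi : i * i = -1) (hE : E ≠ 0) (hX : X ≠ 0)
    (hA : (E * (X * X)) ^ 5 = E * (X * X)) (hP : (E * ((X + w) * (X + w))) ^ 5 = E * ((X + w) * (X + w)))
    (hM : (E * ((X - w) * (X - w))) ^ 5 = E * ((X - w) * (X - w)))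
    (hQ : (-i * (E * ((w - i * X) * (w - i * X)))) ^ 5 = -i * (E * ((w - i * X) * (w - i * X))))
    (hR : (-i * (E * ((w + i * X) * (w + i * X)))) ^ 5 = -i * (E * ((w + i * X) * (w + i * X)))) :
    ∃ m k : F, m ^ 3 = m ∧ k ^ 3 = k ∧ w = (m + k * i) * X := by
  have h2 : (2 : F) ≠ 0 := fun e => one_ne_zero (show (1 : F) = 0 by linear_combination h3 - e)
  have hsub : ∀ x y : F, (x - y) ^ 3 = x ^ 3 - y ^ 3 := fun x y => by
    linear_combination (-x ^ 2 * y + x * y ^ 2) * h3
  have hi0 : i ≠ 0 := fun e => by rw [e, mul_zero] at hi; exact one_ne_zero (show (1 : F) = 0 by linear_combination hi)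
  have sq : ∀ x : F, x ^ 5 = x → (x * x) ^ 3 = x * x := fun x h => by linear_combination x * h
  have sqi : ∀ x : F, (-i * x) ^ 5 = -i * x → (x * x) ^ 3 = x * x := fun x h => by
    have h' := sq _ h
    rw [show -i * x * (-i * x) = -(x * x) by linear_combination (x * x) * hi] at h'
    linear_combination -h'
  set A := E * (X * X) with hAdef
  have hA2 : A * A = 1 ∨ A * A = -1 := by
    refine (cube_fixed (sq A hA)).resolve_left ?_
    exact mul_ne_zero (mul_ne_zero hE (mul_ne_zero hX hX)) (mul_ne_zero hE (mul_ne_zero hX hX))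
  obtain ⟨r, rfl⟩ : ∃ r, w = r * X := ⟨w / X, (div_mul_cancel₀ w hX).symm⟩
  have e1 := hsub (E * ((X + r * X) * (X + r * X)) * (E * ((X + r * X) * (X + r * X))))
    (E * ((X - r * X) * (X - r * X)) * (E * ((X - r * X) * (X - r * X))))
  rw [sq _ hP, sq _ hM] at e1
  have e2 := hsub (E * ((r * X + i * X) * (r * X + i * X)) * (E * ((r * X + i * X) * (r * X + i * X))))
    (E * ((r * X - i * X) * (r * X - i * X)) * (E * ((r * X - i * X) * (r * X - i * X))))
  rw [sqi _ hR, sqi _ hQ] at e2
  set p₀ := A * A * (r * (1 + r * r)) with hp₀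
  set q₀ := A * A * (i * (r * (r * r - 1))) with hq₀
  have hp : (8 * p₀) ^ 3 = 8 * p₀ := by
    rw [show 8 * p₀ = E * ((X + r * X) * (X + r * X)) * (E * ((X + r * X) * (X + r * X))) -
      E * ((X - r * X) * (X - r * X)) * (E * ((X - r * X) * (X - r * X))) by rw [hp₀, hAdef]; ring]
    exact e1
  have hq : (8 * q₀) ^ 3 = 8 * q₀ := by
    rw [show 8 * q₀ = E * ((r * X + i * X) * (r * X + i * X)) * (E * ((r * X + i * X) * (r * X + i * X))) -
      E * ((r * X - i * X) * (r * X - i * X)) * (E * ((r * X - i * X) * (r * X - i * X))) by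
        rw [hq₀, hAdef]; linear_combination (-8 * i * r * E * E * X * X * X * X) * hi]
    exact e2
  have hp' : (r * (1 + r * r)) ^ 3 = r * (1 + r * r) := by
    rcases hA2 with e | e <;> rw [hp₀, e] at hp
    · linear_combination (-1 : F) * hp + (171 * (r * (1 + r * r)) ^ 3 - 3 * (r * (1 + r * r))) * h3
    · linear_combination hp + (171 * (r * (1 + r * r)) ^ 3 - 3 * (r * (1 + r * r))) * h3
  have hq' : (i * (r * (r * r - 1))) ^ 3 = i * (r * (r * r - 1)) := by
    rcases hA2 with e | e <;> rw [hq₀, e] at hq
    · linear_combination (-1 : F) * hq + (171 * (i * (r * (r * r - 1))) ^ 3 - 3 * (i * (r * (r * r - 1)))) * h3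
    · linear_combination hq + (171 * (i * (r * (r * r - 1))) ^ 3 - 3 * (i * (r * (r * r - 1)))) * h3
  refine ⟨-(r * (1 + r * r)), -(i * (r * (r * r - 1))), by linear_combination -hp', ?_, ?_⟩
  · linear_combination -hq'
  · linear_combination (X * (r * (r * r - 1))) * hi + (r * X) * h3

/-- No icosahedral pair. -/
theorem no_bad [Fintype F] (hP : Setting P) (h3 : (3 : F) = 0)
    (hN : ∀ v, Centre P v → Nat.card (params P v) = 3)
    (hS : ∀ u v : V4, ∀ c d : F, tg u c ∈ P → tg v d ∈ P →
      (c * d * (fs u v * fs u v)) ^ 5 = c * d * (fs u v * fs u v))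
    {a b : V4} {c d : F} (hab : fs a b = 1) (hc : c ≠ 0) (hd : d ≠ 0) (hca : tg a c ∈ P) (hdb : tg b d ∈ P)
    (hi : c * d * (c * d) = -1) : False := by
  classical
  have h2 := hP.two
  set i := c * d with hidef
  have ha0 : a ≠ 0 := fun e => one_ne_zero (α := F) (by rw [← hab, e, form_zero_left])
  have hba : fs b a = -1 := by rw [form_antisymm, hab]
  -- the contradiction from a centre with projection on a member
  have final : ∀ {a b : V4} {c d : F}, fs a b = 1 → c ≠ 0 → d ≠ 0 → tg a c ∈ P → tg b d ∈ P →
      c * d * (c * d) = -1 → ∀ {l ce : F} {n : V4}, fs n a = 0 → fs n b = 0 → n ≠ 0 → l ≠ 0 → ce ≠ 0 →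
      tg (l • a + n) ce ∈ P → False := by
    intro a b c d hab hc hd hca hdb hi l ce n hna hnb hn hl hce he
    obtain ⟨hn', hal⟩ := four_orbit hP h3 hab hca hdb hi hna hnb he
    have ha0 : a ≠ 0 := fun e => one_ne_zero (α := F) (by rw [← hab, e, form_zero_left])
    have hk : ce * (l * l) = c ∨ ce * (l * l) = -c :=
      (params_three (hN a ⟨ha0, c, hc, hca⟩) hP.two hca hc hal).resolve_left (mul_ne_zero hce (mul_ne_zero hl hl))
    have hb' := hP.conj_mem he hdb
    rw [tg_apply, form_add, form_smul, form_antisymm b a, hab, form_antisymm b n, hnb] at hb'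
    have hb'' := hP.conj_mem (show tg a (-(ce * (l * l))) ∈ P by rw [← tg_inv]; exact P.inv_mem hal) hb'
    rw [show b + (ce * (l * -1 + -0)) • (l • a + n) = (-(ce * (l * l))) • a + (1 : F) • b + (-(ce * l)) • n by module,
      tg_plane_a hab _ _ _ (by rw [form_smul_left, hna, mul_zero]),
      show (-(ce * (l * l)) - -(ce * (l * l)) * 1) • a + (1 : F) • b + (-(ce * l)) • n = b + (-(ce * l)) • n by module]
      at hb''
    have hb3 : tg ((-1 : F) • (b + (-(ce * l)) • n)) d ∈ P := by rwa [tg_smul, show (-1 : F) * -1 * d = d by ring]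
    have hab' : fs ((-1 : F) • (b + (-(ce * l)) • n)) a = 1 := by
      rw [form_smul_left, form_add_left, form_smul_left, hna, form_antisymm b a, hab]; ring
    obtain ⟨hnd, -⟩ := four_orbit hP h3 hab' hb3 hca
      (show d * c * (d * c) = -1 by linear_combination hi) (l := -1) (n := (ce * l) • n) (ce := d)
      (by rw [form_smul, form_smul_left, form_add, form_smul, hnb, form_self']; ring)
      (by rw [form_smul_left, hna, mul_zero])
      (by rwa [show (-1 : F) • ((-1 : F) • (b + (-(ce * l)) • n)) + (ce * l) • n = b by module])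
    rw [tg_smul] at hnd
    rcases params_three (hN n ⟨hn, ce, hce, hn'⟩) hP.two hn' hce hnd with e | e | e
    · exact mul_ne_zero (mul_ne_zero (mul_ne_zero hce hl) (mul_ne_zero hce hl)) hd e
    · have e' : d * (ce * (l * l)) = 1 := mul_left_cancel₀ hce (by linear_combination e)
      rcases hk with h | h <;> rw [h] at e'
      · exact hP.two (by linear_combination hi - (c * d + 1) * e')
      · exact hP.two (by linear_combination hi + (c * d - 1) * e')
    · have e' : d * (ce * (l * l)) = -1 := mul_left_cancel₀ hce (by linear_combination e)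
      rcases hk with h | h <;> rw [h] at e'
      · exact hP.two (by linear_combination hi - (c * d - 1) * e')
      · exact hP.two (by linear_combination hi + (c * d + 1) * e')
  -- a centre outside the plane and its orthogonal
  obtain ⟨e, ⟨he0, ce, hce, he⟩, hep, hne⟩ : ∃ e, Centre P e ∧ (¬ ∃ α β : F, e = α • a + β • b) ∧
      (fs e a ≠ 0 ∨ fs e b ≠ 0) := by
    by_contra! hno
    have hCa : Centre P a := ⟨ha0, c, hc, hca⟩
    have hall : ∀ v, Centre P v → ∃ α β : F, v = α • a + β • b := by
      refine hP.connected _ hCa ⟨1, 0, by simp⟩ fun u v _ hu hv hne => ?_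
      obtain ⟨α, β, rfl⟩ := hu
      by_contra hv'
      obtain ⟨h1, h2⟩ := hno v hv (by push Not at hv'; exact hv')
      exact hne (by rw [form_add_left, form_smul_left, form_smul_left, form_antisymm a v, h1, form_antisymm b v, h2]; ring)
    have hW : Submodule.span F {a, b} = ⊤ := hP.subspace_top hCa (fun w k hm x _ => by
        rcases eq_or_ne k 0 with rfl | hk
        · rw [zero_mul, zero_smul]; exact Submodule.zero_mem _
        rcases eq_or_ne w 0 with rfl | hw
        · rw [smul_zero]; exact Submodule.zero_mem _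
        obtain ⟨α, β, hw'⟩ := hall w ⟨hw, k, hk, hm⟩
        exact Submodule.smul_mem _ _ (Submodule.mem_span_pair.2 ⟨α, β, hw'.symm⟩))
      (fun e => ha0 ((Submodule.eq_bot_iff _).1 e a (Submodule.subset_span (by simp))))
    have h := finrank_top F V4
    rw [← hW, Module.finrank_fintype_fun_eq_card, Fintype.card_sum, Fintype.card_fin] at h
    have hle : Module.finrank F (Submodule.span F (Set.range ![a, b])) ≤ 2 :=
      (finrank_range_le_card (R := F) ![a, b]).trans_eq (Fintype.card_fin 2)
    rw [Matrix.range_cons, Matrix.range_cons, Matrix.range_empty, Set.union_empty, Set.singleton_union] at hle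
    omega
  set X := fs e a with hX
  set Y := fs e b with hY
  set n := e - Y • a + X • b with hn
  have hna : fs n a = 0 := by rw [hn, form_add_left, form_sub_left, form_smul_left, form_smul_left, form_self', hba, ← hX]; ring
  have hnb : fs n b = 0 := by rw [hn, form_add_left, form_sub_left, form_smul_left, form_smul_left, form_self', hab, ← hY]; ring
  have hdec : e = Y • a + (-X) • b + n := by rw [hn]; module
  have hn0 : n ≠ 0 := fun h => hep ⟨Y, -X, by rw [hdec, h, add_zero]⟩
  by_cases hX0 : X = 0
  · exact final hab hc hd hca hdb hi hna hnb hn0 (hne.resolve_left (fun h => h hX0)) hce (by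
      rw [show Y • a + n = e by rw [hdec, hX0, neg_zero, zero_smul, add_zero]]; exact he)
  -- rationality
  have hab2 : ∀ k : F, k = 1 ∨ k = -1 → tg (a + (k * d) • b) c ∈ P ∧ tg (b + (-(k * c)) • a) d ∈ P := by
    intro k hk
    have hk1 : tg b (k * d) ∈ P := by
      rcases hk with rfl | rfl
      · rwa [one_mul]
      · rw [neg_one_mul, ← tg_inv]; exact P.inv_mem hdb
    have hk2 : tg a (k * c) ∈ P := by
      rcases hk with rfl | rfl
      · rwa [one_mul]
      · rw [neg_one_mul, ← tg_inv]; exact P.inv_mem hca
    constructor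
    · have := hP.conj_mem hk1 hca
      rwa [tg_apply, hab, mul_one] at this
    · have := hP.conj_mem hk2 hdb
      rwa [tg_apply, hba, mul_neg_one] at this
  have hvA : ∀ k : F, k = 1 ∨ k = -1 →
      (ce * c * ((X + k * (d * Y)) * (X + k * (d * Y)))) ^ 5 = ce * c * ((X + k * (d * Y)) * (X + k * (d * Y))) := by
    intro k hk
    have := hS e _ ce c he (hab2 k hk).1
    rwa [form_add, form_smul, ← hX, ← hY, show X + k * d * Y = X + k * (d * Y) by ring] at this
  have hvB : ∀ k : F, k = 1 ∨ k = -1 → (-i * (ce * c * ((d * Y - k * i * X) * (d * Y - k * i * X)))) ^ 5 =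
      -i * (ce * c * ((d * Y - k * i * X) * (d * Y - k * i * X))) := by
    intro k hk
    have := hS e _ ce d he (hab2 k hk).2
    rw [form_add, form_smul, ← hX, ← hY] at this
    have e' : -i * (ce * c * ((d * Y - k * i * X) * (d * Y - k * i * X))) =
        ce * d * ((Y + -(k * c) * X) * (Y + -(k * c) * X)) := by
      rw [hidef]
      linear_combination (-(ce * d * ((Y - k * c * X) * (Y - k * c * X)))) * hi
    rw [e']; exact this
  have hvX := hS e a ce c he hca
  rw [← hX] at hvX
  obtain ⟨m, k, hm, hk, hw⟩ := rational h3 hi (mul_ne_zero hce hc) hX0 hvX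
    (by simpa only [one_mul] using hvA 1 (Or.inl rfl))
    (by simpa only [neg_one_mul, ← sub_eq_add_neg] using hvA (-1) (Or.inr rfl))
    (by simpa only [one_mul] using hvB 1 (Or.inl rfl))
    (by simpa only [neg_mul, one_mul, sub_neg_eq_add] using hvB (-1) (Or.inr rfl))
  have hpar : ∀ {v : V4} {x : F}, tg v x ∈ P → ∀ {j : F}, j ^ 3 = j → tg v (j * x) ∈ P := by
    intro v x hx j hj
    rcases cube_fixed hj with rfl | rfl | rfl
    · rw [zero_mul, tg_zero]; exact P.one_mem
    · rwa [one_mul]
    · rw [neg_one_mul, ← tg_inv]; exact P.inv_mem hx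
  have he1 := hP.conj_mem (hpar hca (show (-k) ^ 3 = -k by linear_combination -hk)) he
  rw [hdec, tg_plane_a hab _ _ _ hna] at he1
  have hco : d * (Y - -k * c * -X) = m * X := by
    linear_combination hw
  by_cases hm0 : m = 0
  · have hα : Y - -k * c * -X = 0 := by
      rw [hm0, zero_mul] at hco
      exact (mul_eq_zero.1 hco).resolve_left hd
    rw [hα, zero_smul, zero_add] at he1
    refine final (a := b) (b := -a) (c := d) (d := c) ?_ hd hc hdb ?_ (by linear_combination hi) hnb ?_ hn0
      (neg_ne_zero.2 hX0) hce he1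
    · rw [← neg_one_smul F a, form_smul, hba]; ring
    · rw [← neg_one_smul F a, tg_smul, show (-1 : F) * -1 * c = c by ring]; exact hca
    · rw [← neg_one_smul F a, form_smul, hna, mul_zero]
  · have he2 := hP.conj_mem (hpar hdb hm) he1
    rw [tg_plane_b hab _ _ _ hnb] at he2
    have hm2 : m * m = 1 := mul_left_cancel₀ hm0 (by linear_combination hm)
    have hβ : -X + m * d * (Y - -k * c * -X) = 0 := by
      linear_combination m * hco + X * hm2
    rw [hβ, zero_smul, add_zero] at he2
    refine final hab hc hd hca hdb hi hna hnb hn0 ?_ hce he2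
    intro h
    rw [h, mul_zero, eq_comm, mul_eq_zero] at hco
    exact hco.elim hm0 hX0

end CfsgLib.Sp4Odd.R1
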