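import Cfsg.Agent.Lib.Sp4Odd.R1.Basic

/-!
Products of two centres lying in a field force all traces into it.
-/

set_option autoImplicit false
set_option linter.unusedSectionVars false

namespace CfsgLib.Sp4Odd.R1

open Matrix CfsgLib.Sp4Odd.Q

variable {F : Type*} [Field F]

local notation "V4" => (Fin 2 ⊕ Fin 2 → F)
local notation "M4" => Matrix (Fin 2 ⊕ Fin 2) (Fin 2 ⊕ Fin 2) F
local notation "G4" => Matrix.GeneralLinearGroup (Fin 2 ⊕ Fin 2) F
local notation "fs" => Cfsg.sympForm 2 F

theorem mat_ext {A B : M4} (h : ∀ x, A *ᵥ x = B *ᵥ x) : A = B := Matrix.ext_of_mulVec_single fun _ => h _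

theorem nil_mul_nil (v w : V4) (c d : F) :
    nil v c * nil w d = (c * d * fs w v) • vecMulVec v (Matrix.J (Fin 2) F *ᵥ w) := mat_ext fun x => by
  rw [← Matrix.mulVec_mulVec, nil_mulVec, nil_mulVec, form_smul_left, Matrix.smul_mulVec, Matrix.vecMulVec_mulVec,
    op_smul_eq_smul, smul_smul, dotProduct_comm (Matrix.J (Fin 2) F *ᵥ w) x, show x ⬝ᵥ (Matrix.J (Fin 2) F *ᵥ w) = fs x w from rfl]
  congr 1
  ring

theorem trace_vmv (v w : V4) : (vecMulVec v (Matrix.J (Fin 2) F *ᵥ w)).trace = fs v w := by
  rw [Matrix.trace_vecMulVec]; rfl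

theorem trace_nil (v : V4) (c : F) : (nil v c).trace = 0 := by
  rw [nil, Matrix.trace_smul, trace_vmv, form_self', smul_zero]

theorem trace_pair (v w : V4) (c d : F) : (nil v c * nil w d).trace = -(c * d * (fs v w * fs v w)) := by
  rw [nil_mul_nil, Matrix.trace_smul, trace_vmv, form_antisymm w v, smul_eq_mul]
  ring

theorem sandwich (v w : V4) (c d : F) :
    nil v c * (nil w d * nil v c) = (-(c * d * (fs v w * fs v w))) • nil v c := mat_ext fun x => by
  rw [← Matrix.mulVec_mulVec, ← Matrix.mulVec_mulVec, nil_mulVec, nil_mulVec, nil_mulVec, Matrix.smul_mulVec, nil_mulVec,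
    form_smul_left, form_smul_left, form_antisymm w v]
  module

theorem triple (u v w : V4) (a b c : F) :
    nil u a * (nil v b * nil w c) = (a * b * c * (fs w v * fs v u)) • vecMulVec u (Matrix.J (Fin 2) F *ᵥ w) :=
  mat_ext fun x => by
    rw [← Matrix.mulVec_mulVec, ← Matrix.mulVec_mulVec, nil_mulVec, nil_mulVec, nil_mulVec, form_smul_left,
      form_smul_left, Matrix.smul_mulVec, Matrix.vecMulVec_mulVec, op_smul_eq_smul, smul_smul,
      dotProduct_comm (Matrix.J (Fin 2) F *ᵥ w) x, show x ⬝ᵥ (Matrix.J (Fin 2) F *ᵥ w) = fs x w from rfl]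
    congr 1
    ring

variable {P : Subgroup (Matrix.GeneralLinearGroup (Fin 2 ⊕ Fin 2) F)}

theorem nil_conj {v w : V4} {b : F} (hb : tg w b ∈ Cfsg.spGL 2 F) (c : F) :
    nil ((tg w b).1 *ᵥ v) c = (1 + nil w b) * nil v c * (1 - nil w b) := by
  have h := congrArg Units.val (tg_conj hb v c)
  rw [Units.val_mul, Units.val_mul, tg_inv, tg_val, tg_val, tg_val, tg_val] at h
  rw [show (1 : M4) - nil w b = 1 + nil w (-b) by simp [nil, sub_eq_add_neg], tg_val]
  have h1 := one_add_nil_mul w b (-b)
  rw [add_neg_cancel, show (1 : M4) + nil w 0 = 1 by simp [nil]] at h1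
  have e : (1 + nil w b) * (1 + nil v c) * (1 + nil w (-b)) =
      (1 + nil w b) * (1 + nil w (-b)) + (1 + nil w b) * nil v c * (1 + nil w (-b)) := by noncomm_ring
  rw [e, h1] at h
  exact (add_left_cancel h).symm

theorem trace_list (hP : Setting P) (K : Subfield F)
    (hθ : ∀ u v : V4, ∀ c d : F, tg u c ∈ P → tg v d ∈ P → c * d * (fs u v * fs u v) ∈ K) :
    ∀ (n : ℕ) (l : List (V4 × F)), l.length = n → (∀ e ∈ l, tg e.1 e.2 ∈ P) →
      (l.map fun e => nil e.1 e.2).prod.trace ∈ K := by
  classical
  intro n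
  induction n using Nat.strong_induction_on with
  | _ n ih =>
  intro l hl hm
  have h2K : (2 : F) ∈ K := natCast_mem K 2
  rcases l with _ | ⟨⟨u, a⟩, _ | ⟨⟨v, b⟩, _ | ⟨⟨w, c⟩, rest⟩⟩⟩
  · rw [List.map_nil, List.prod_nil, Matrix.trace_one]
    exact natCast_mem K _
  · rw [List.map_cons, List.map_nil, List.prod_cons, List.prod_nil, mul_one, trace_nil]
    exact K.zero_mem
  · simp only [List.map_cons, List.map_nil, List.prod_cons, List.prod_nil, mul_one, trace_pair]
    exact K.neg_mem (hθ _ _ _ _ (hm (u, a) (by simp)) (hm (v, b) (by simp)))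
  have hu : tg u a ∈ P := hm (u, a) (by simp)
  have hv : tg v b ∈ P := hm (v, b) (by simp)
  have hw : tg w c ∈ P := hm (w, c) (by simp)
  have hrest : ∀ e ∈ rest, tg e.1 e.2 ∈ P := fun e he => hm e (by simp [he])
  set R := (rest.map fun e => nil e.1 e.2).prod
  simp only [List.map_cons, List.prod_cons]
  simp only [List.length_cons] at hl
  set u' := (tg v b).1 *ᵥ u with hu'
  have hu'P : tg u' a ∈ P := hP.conj_mem hv hu
  have hexp : ∀ X : M4, nil u' a * X = nil u a * X + nil v b * (nil u a * X) - nil u a * (nil v b * X) -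
      nil v b * (nil u a * nil v b) * X := fun X => by
    rw [hu', nil_conj (tg_mem_sp v b)]
    noncomm_ring
  by_cases hwu : a * c * fs w u = 0
  · have h0 : nil u a * nil w c = 0 := by rw [nil_mul_nil, hwu, zero_smul]
    have e := congrArg Matrix.trace (hexp (nil w c * R))
    rw [← mul_assoc (nil u a) (nil w c), h0, zero_mul, mul_zero, add_zero, zero_sub, sandwich, Matrix.smul_mul,
      Matrix.trace_sub, Matrix.trace_neg, Matrix.trace_smul, smul_eq_mul] at e
    have h1 : (nil u' a * (nil w c * R)).trace ∈ K := by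
      have := ih (rest.length + 2) (by omega) ((u', a) :: (w, c) :: rest) (by simp) (by
        simp only [List.mem_cons, forall_eq_or_imp]; exact ⟨hu'P, hw, hrest⟩)
      simpa using this
    have h2 : (nil v b * (nil w c * R)).trace ∈ K := by
      have := ih (rest.length + 2) (by omega) ((v, b) :: (w, c) :: rest) (by simp) (by
        simp only [List.mem_cons, forall_eq_or_imp]; exact ⟨hv, hw, hrest⟩)
      simpa using this
    rw [show (nil u a * (nil v b * (nil w c * R))).trace = -((nil u' a * (nil w c * R)).trace +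
      -(b * a * (fs v u * fs v u)) * (nil v b * (nil w c * R)).trace) by linear_combination e]
    exact K.neg_mem (K.add_mem h1 (K.mul_mem (K.neg_mem (hθ _ _ _ _ hv hu)) h2))
  · -- the middle factor is absorbed
    set r := b * (fs w v * fs v u) / fs w u with hr
    have hwu' : fs w u ≠ 0 := right_ne_zero_of_mul hwu
    have habs : nil u a * (nil v b * nil w c) = r • (nil u a * nil w c) := by
      rw [triple, nil_mul_nil, smul_smul]
      congr 1
      rw [hr]; field_simp
    have hT : (nil u a * (nil v b * nil w c)).trace ∈ K := by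
      have e := congrArg Matrix.trace (hexp (nil w c))
      rw [sandwich, Matrix.smul_mul, Matrix.trace_sub, Matrix.trace_sub, Matrix.trace_add, Matrix.trace_smul,
        smul_eq_mul, trace_pair, trace_pair, trace_pair] at e
      have hrev : (nil v b * (nil u a * nil w c)).trace = -(nil u a * (nil v b * nil w c)).trace := by
        rw [triple, triple, Matrix.trace_smul, Matrix.trace_smul, trace_vmv, trace_vmv, smul_eq_mul, smul_eq_mul,
          form_antisymm v u, form_antisymm w v, form_antisymm u w]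
        ring
      rw [hrev] at e
      have h2T : 2 * (nil u a * (nil v b * nil w c)).trace ∈ K := by
        rw [show 2 * (nil u a * (nil v b * nil w c)).trace = a * c * (fs u' w * fs u' w) - a * c * (fs u w * fs u w) -
          b * a * (fs v u * fs v u) * (b * c * (fs v w * fs v w)) by linear_combination e]
        exact K.sub_mem (K.sub_mem (hθ _ _ _ _ hu'P hw) (hθ _ _ _ _ hu hw))
          (K.mul_mem (hθ _ _ _ _ hv hu) (hθ _ _ _ _ hv hw))
      have := K.div_mem h2T h2K
      rwa [mul_div_cancel_left₀ _ hP.two] at this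
    have hrK : r ∈ K := by
      rw [habs, Matrix.trace_smul, smul_eq_mul, trace_pair] at hT
      have hne : -(a * c * (fs u w * fs u w)) ≠ 0 := by
        rw [form_antisymm u w]
        exact neg_ne_zero.2 (mul_ne_zero (left_ne_zero_of_mul hwu)
          (mul_ne_zero (neg_ne_zero.2 hwu') (neg_ne_zero.2 hwu')))
      have := K.div_mem hT (K.neg_mem (hθ _ _ _ _ hu hw))
      rwa [mul_div_cancel_right₀ _ hne] at this
    have h1 : (nil u a * (nil w c * R)).trace ∈ K := by
      have := ih (rest.length + 2) (by omega) ((u, a) :: (w, c) :: rest) (by simp) (by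
        simp only [List.mem_cons, forall_eq_or_imp]; exact ⟨hu, hw, hrest⟩)
      simpa using this
    rw [show nil u a * (nil v b * (nil w c * R)) = r • (nil u a * (nil w c * R)) by
      rw [← mul_assoc (nil v b), ← mul_assoc (nil u a), habs, Matrix.smul_mul, mul_assoc], Matrix.trace_smul, smul_eq_mul]
    exact K.mul_mem hrK h1

/-- All traces lie in the field. -/
theorem trace_mem (hP : Setting P) (K : Subfield F)
    (hθ : ∀ u v : V4, ∀ c d : F, tg u c ∈ P → tg v d ∈ P → c * d * (fs u v * fs u v) ∈ K)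
    {a : V4} (ha : Centre P a) {g : G4} (hg : g ∈ P) : g.1.trace ∈ K := by
  classical
  let T : Set M4 := {A | ∃ v c, tg v c ∈ P ∧ A = nil v c}
  let S := Subring.closure T
  let M : Subgroup G4 :=
    { carrier := {g | g.1 ∈ S ∧ (g⁻¹).1 ∈ S}
      one_mem' := ⟨S.one_mem, by rw [inv_one]; exact S.one_mem⟩
      mul_mem' := fun {g h} hg hh => ⟨S.mul_mem hg.1 hh.1, by rw [_root_.mul_inv_rev]; exact S.mul_mem hh.2 hg.2⟩
      inv_mem' := fun {g} hg => ⟨hg.2, by rw [inv_inv]; exact hg.1⟩ }
  have hle : P ≤ M := hP.le_of_centres ha M fun v c hm => by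
    have hs : ∀ k, tg v k ∈ P → (tg v k).1 ∈ S := fun k hk =>
      S.add_mem S.one_mem (Subring.subset_closure ⟨v, k, hk, rfl⟩)
    exact ⟨hs c hm, by rw [tg_inv]; exact hs _ (by rw [← tg_inv]; exact P.inv_mem hm)⟩
  have hmem : g.1 ∈ AddSubgroup.closure (Submonoid.closure T : Set M4) := Subring.mem_closure_iff.1 (hle hg).1
  generalize g.1 = A at hmem ⊢
  induction hmem using AddSubgroup.closure_induction with
  | mem x hx =>
    obtain ⟨l, hl, rfl⟩ := Submonoid.exists_list_of_mem_closure hx
    choose v c hm he using fun e : {x // x ∈ l} => hl e.1 e.2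
    have : l = (l.attach.map fun e => (v e, c e)).map fun e => nil e.1 e.2 := by
      rw [List.map_map]
      conv_lhs => rw [← List.attach_map_subtype_val l]
      exact List.map_congr_left fun e _ => he e
    rw [this]
    exact trace_list hP K hθ _ _ rfl fun e he' => by
      obtain ⟨x, -, rfl⟩ := List.mem_map.1 he'
      exact hm x
  | zero => rw [Matrix.trace_zero]; exact K.zero_mem
  | add x y _ _ hx hy => rw [Matrix.trace_add]; exact K.add_mem hx hy
  | neg x _ hx => rw [Matrix.trace_neg]; exact K.neg_mem hx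

end CfsgLib.Sp4Odd.R1
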