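import Cfsg.Agent.Lib.Sp4Odd.R1.Plane
import Cfsg.Agent.Lib.Sp4Odd.R1.Bad
import Cfsg.Agent.Lib.Sp4Odd.R1.Trace
import Cfsg.Agent.Lib.SympGen
import Cfsg.Agent.Lib.PSL2Max.Scaled
import Cfsg.Agent.Lib.Sp4Even.Realise

/-!
A residual maximal subgroup of the four-dimensional symplectic group in odd characteristic has no transvection in
its core.
-/

set_option autoImplicit false
set_option linter.unusedSectionVars false

namespace CfsgLib.Sp4Odd.R1

open Matrix CfsgLib.Sp4Odd.Q

variable {F : Type*} [Field F] [Fintype F]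

local notation "V4" => (Fin 2 ⊕ Fin 2 → F)
local notation "G4" => Matrix.GeneralLinearGroup (Fin 2 ⊕ Fin 2) F
local notation "fs" => Cfsg.sympForm 2 F

variable {P : Subgroup (Matrix.GeneralLinearGroup (Fin 2 ⊕ Fin 2) F)}

/-- Every transvection parameter group is the whole field. -/
theorem Setting.full (hP : Setting P) (p : ℕ) [Fact p.Prime] [CharP F p] (hp : p ≠ 2) {a : V4} (ha : Centre P a) :
    ∀ v, Centre P v → ∀ c, tg v c ∈ P := by
  classical
  set N := Nat.card (params P a)
  have hN : ∀ v, Centre P v → Nat.card (params P v) = N := fun v hv => hP.card_params p hp ha hv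
  obtain ⟨K, hK, hbad⟩ : ∃ K : Subfield F, Nat.card K = N ∧ ∀ u v : V4, ∀ c d : F, tg u c ∈ P → tg v d ∈ P →
      c * d * (fs u v * fs u v) ∈ K ∨ (p = 3 ∧ N = 3 ∧ (c * d * (fs u v * fs u v)) ^ 2 = -1) := by
    have prime3 : p = 3 → ∃ K : Subfield F, Nat.card K = 3 ∧ ∀ x : F, x ^ 3 = x → x ∈ K := fun hp3 => by
      subst hp3
      refine ⟨(ZMod.castHom (dvd_refl 3) F).fieldRange, ?_, fun x hx => ?_⟩
      · rw [← Nat.card_congr (RingHom.rangeRestrictFieldEquiv (ZMod.castHom (dvd_refl 3) F)).toEquiv, Nat.card_zmod]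
      · rcases cube_fixed hx with rfl | rfl | rfl
        · exact zero_mem _
        · exact one_mem _
        · exact neg_mem (one_mem _)
    obtain ⟨b, hb, hab⟩ := hP.exists_opposite ha
    obtain ⟨-, c₀, hc₀, hm₀⟩ := id ha
    obtain ⟨-, d₀, hd₀, hn₀⟩ := id hb
    obtain ⟨K, hK⟩ : ∃ K : Subfield F, Nat.card K = N := by
      rcases pair_cases p hp hab hc₀ hd₀ hm₀ hn₀ with ⟨K, hK, -, -, -⟩ | ⟨hp3, h3, -⟩
      · exact ⟨K, hK⟩
      · obtain ⟨K, hK, -⟩ := prime3 hp3
        exact ⟨K, hK.trans h3.symm⟩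
    refine ⟨K, hK, fun u v c d hc hd => ?_⟩
    by_cases h0 : c * d * (fs u v * fs u v) = 0
    · exact Or.inl (h0 ▸ K.zero_mem)
    have hne : fs u v ≠ 0 := fun e => h0 (by rw [e, mul_zero, mul_zero])
    have hc0 : c ≠ 0 := fun e => h0 (by rw [e, zero_mul, zero_mul])
    have hd0 : d ≠ 0 := fun e => h0 (by rw [e, mul_zero, zero_mul])
    have hu : Centre P u := ⟨fun e => hne (by rw [e, form_zero_left]), c, hc0, hc⟩
    rcases pair_cases p hp hne hc0 hd0 hc hd with ⟨L, hL, -, -, hθ⟩ | ⟨hp3, h3, hθ | hθ⟩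
    · exact Or.inl (CfsgLib.PSL2Max.subfield_eq_of_card ((hL.trans (hN u hu)).trans hK.symm) ▸ hθ)
    · obtain ⟨L, hL, hL3⟩ := prime3 hp3
      have h3N : (3 : ℕ) = N := h3.symm.trans (hN u hu)
      exact Or.inl (CfsgLib.PSL2Max.subfield_eq_of_card ((hL.trans h3N).trans hK.symm) ▸ hL3 _ hθ)
    · exact Or.inr ⟨hp3, (hN u hu).symm.trans h3, hθ⟩
  have hθ : ∀ u v : V4, ∀ c d : F, tg u c ∈ P → tg v d ∈ P → c * d * (fs u v * fs u v) ∈ K := by
    intro u v c d hc hd
    rcases hbad u v c d hc hd with h | ⟨hp3, hN3, hsq⟩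
    · exact h
    exfalso
    subst hp3
    have h30 : (3 : F) = 0 := by exact_mod_cast CharP.cast_eq_zero F 3
    have hS : ∀ u v : V4, ∀ c d : F, tg u c ∈ P → tg v d ∈ P →
        (c * d * (fs u v * fs u v)) ^ 5 = c * d * (fs u v * fs u v) := by
      intro u v c d hc hd
      rcases hbad u v c d hc hd with h | ⟨-, -, h⟩
      · rw [CfsgLib.PSL2Max.mem_subfield_iff, hK, hN3] at h
        rw [show 5 = 3 + 2 from rfl, pow_add, h, ← pow_succ', h]
      · rw [show 5 = 2 + 2 + 1 from rfl, pow_succ, pow_add, h]; ring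
    have hne : fs u v ≠ 0 := fun e => by
      rw [e, mul_zero, mul_zero] at hsq
      exact one_ne_zero (show (1 : F) = 0 by linear_combination hsq)
    have hne0 : c * d ≠ 0 := fun e => by
      rw [e, zero_mul] at hsq
      exact one_ne_zero (show (1 : F) = 0 by linear_combination hsq)
    refine no_bad hP h30 (fun w hw => (hN w hw).trans hN3) hS (a := u) (b := (fs u v)⁻¹ • v) (c := c)
      (d := d * (fs u v * fs u v)) ?_ (left_ne_zero_of_mul hne0)
      (mul_ne_zero (right_ne_zero_of_mul hne0) (mul_ne_zero hne hne)) hc ?_ ?_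
    · rw [form_smul, inv_mul_cancel₀ hne]
    · rwa [tg_smul, show (fs u v)⁻¹ * (fs u v)⁻¹ * (d * (fs u v * fs u v)) = d by field_simp]
    · linear_combination hsq
  have hKtop : K = ⊤ := by
    by_contra hne
    exact hP.prim K hne (CfsgLib.Sp4Even.realisable_of_traces (CfsgLib.Aschbacher.envelope_eq_top hP.absIrred)
      fun g hg => trace_mem hP K hθ ha hg)
  intro v hv c
  have hcard : Nat.card (params P v) = Nat.card F := by
    rw [hN v hv, ← hK, hKtop]
    exact Nat.card_congr Subfield.topEquiv.toEquiv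
  have htop : params P v = ⊤ := AddSubgroup.eq_top_of_card_eq _ hcard
  exact mem_params.1 (htop ▸ AddSubgroup.mem_top c)

/-- The group contains the symplectic group. -/
theorem Setting.all_centres (hP : Setting P) (p : ℕ) [Fact p.Prime] [CharP F p] (hp : p ≠ 2) {a : V4}
    (ha : Centre P a) : ∀ v c, tg v c ∈ P := by
  classical
  have hfull := hP.full p hp ha
  have h2 := hP.two
  have hsmul : ∀ {v : V4} {r : F}, Centre P v → r ≠ 0 → Centre P (r • v) := fun {v r} hv hr =>
    ⟨smul_ne_zero hr hv.1, 1, one_ne_zero, by rw [tg_smul]; exact hfull v hv _⟩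
  have hplane : ∀ {u v : V4}, Centre P u → Centre P v → fs u v ≠ 0 → ∀ r s : F, r • u + s • v ≠ 0 →
      Centre P (r • u + s • v) := by
    intro u v hu hv hne r s h0
    rcases eq_or_ne r 0 with rfl | hr
    · rw [zero_smul, zero_add] at h0 ⊢
      exact hsmul hv fun e => h0 (by rw [e, zero_smul])
    · have := hsmul (hP.centre_step hu (hfull v hv (s / r / fs u v))) hr
      rwa [div_mul_cancel₀ _ hne, smul_add, smul_smul, mul_div_cancel₀ _ hr] at this
  have hnon : ∀ {x y : V4}, fs x y ≠ 0 → x ≠ 0 := fun {x y} h e => h (by rw [e, form_zero_left])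
  have hcommon : ∀ {u v : V4}, Centre P u → Centre P v → ∃ d, Centre P d ∧ fs d u ≠ 0 ∧ fs d v ≠ 0 := by
    intro u v hu hv
    refine hP.connected (fun v => ∃ d, Centre P d ∧ fs d u ≠ 0 ∧ fs d v ≠ 0) hu ?_ ?_ v hv
    · obtain ⟨d, hd, hne⟩ := hP.exists_opposite hu
      have h' : fs d u ≠ 0 := by rw [form_antisymm]; exact neg_ne_zero.2 hne
      exact ⟨d, hd, h', h'⟩
    · rintro x y hx ⟨d, hd, hdu, hdx⟩ hy hxy
      by_cases hdy : fs d y = 0
      swap
      · exact ⟨d, hd, hdu, hdy⟩
      obtain ⟨t, ht0, ht⟩ : ∃ t : F, t ≠ 0 ∧ fs d u + t * fs x u ≠ 0 := by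
        by_cases h1 : fs d u + 1 * fs x u = 0
        · refine ⟨-1, neg_ne_zero.2 one_ne_zero, fun h => hdu ?_⟩
          exact (mul_eq_zero.1 (show (2 : F) * fs d u = 0 by linear_combination h1 + h)).resolve_left h2
        · exact ⟨1, one_ne_zero, h1⟩
      have hu' : fs ((1 : F) • d + t • x) u ≠ 0 := by rwa [form_add_left, form_smul_left, form_smul_left, one_mul]
      refine ⟨_, hplane hd hx hdx 1 t (hnon hu'), hu', ?_⟩
      rw [form_add_left, form_smul_left, form_smul_left, hdy, mul_zero, zero_add]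
      exact mul_ne_zero ht0 hxy
  have hfamily : ∀ {a b d : V4}, Centre P a → Centre P b → Centre P d → fs d a ≠ 0 → fs d b ≠ 0 → fs a b = 0 →
      ∀ α β γ : F, γ ≠ 0 → α • a + β • b + γ • d ≠ 0 → Centre P (α • a + β • b + γ • d) := by
    intro a b d ha hb hd hda hdb hab α β γ hγ h0
    have hx' : fs (α • a + γ • d) b ≠ 0 := by
      rw [form_add_left, form_smul_left, form_smul_left, hab, mul_zero, zero_add]; exact mul_ne_zero hγ hdb
    have hx : Centre P (α • a + γ • d) :=
      hplane ha hd (by rw [form_antisymm]; exact neg_ne_zero.2 hda) α γ (hnon hx')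
    have e : α • a + β • b + γ • d = (1 : F) • (α • a + γ • d) + β • b := by module
    rw [e] at h0 ⊢
    exact hplane hx hb hx' 1 β h0
  have hsum : ∀ {u v : V4}, Centre P u → Centre P v → u + v ≠ 0 → Centre P (u + v) := by
    intro u v hu hv h0
    by_cases huv : fs u v = 0
    swap
    · simpa using hplane hu hv huv 1 1 (by simpa using h0)
    obtain ⟨d, hd, hdu, hdv⟩ := hcommon hu hv
    have hvu : fs v u = 0 := by rw [form_antisymm, huv, neg_zero]
    suffices hz : ∃ z, Centre P z ∧ fs z u ≠ 0 ∧ fs z v ≠ 0 ∧ fs z (u + v) ≠ 0 by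
      obtain ⟨z, hz, hzu, hzv, hzs⟩ := hz
      have hne : fs z (u + v + z) ≠ 0 := by rwa [form_add, form_self', add_zero]
      have hw : Centre P (u + v + z) := by
        have := hfamily hu hv hz hzu hzv huv 1 1 1 one_ne_zero (by
          simp only [one_smul]; exact fun e => hne (by rw [e, form_zero_right]))
        simpa using this
      have h := hplane hz hw hne (-1) 1 (by
        rwa [show (-1 : F) • z + (1 : F) • (u + v + z) = u + v by module])
      rwa [show (-1 : F) • z + (1 : F) • (u + v + z) = u + v by module] at h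
    obtain ⟨d', hd', hds⟩ : ∃ d', Centre P d' ∧ fs d' (u + v) ≠ 0 := by
      by_contra! h
      have hW : Submodule.span F {w : V4 | Centre P w} = ⊤ := hP.subspace_top hu (fun w c hm x _ => by
          rcases eq_or_ne c 0 with rfl | hc
          · rw [zero_mul, zero_smul]; exact Submodule.zero_mem _
          rcases eq_or_ne w 0 with rfl | hw
          · rw [smul_zero]; exact Submodule.zero_mem _
          exact Submodule.smul_mem _ _ (Submodule.subset_span ⟨hw, c, hc, hm⟩))
        (fun e => hu.1 ((Submodule.eq_bot_iff _).1 e u (Submodule.subset_span hu)))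
      refine h0 (form_nondeg' fun x => ?_)
      have hx : x ∈ Submodule.span F {w : V4 | Centre P w} := hW ▸ Submodule.mem_top
      induction hx using Submodule.span_induction with
      | mem w hw => exact h w hw
      | zero => exact form_zero_left _
      | add y z _ _ hy hz => rw [form_add_left, hy, hz, add_zero]
      | smul r y _ hy => rw [form_smul_left, hy, mul_zero]
    have hstep : ∀ {u v : V4}, Centre P u → fs d u ≠ 0 → fs d v ≠ 0 → fs u v = 0 → fs d' u ≠ 0 → fs d' v = 0 →
        fs d (u + v) = 0 → ∃ z, Centre P z ∧ fs z u ≠ 0 ∧ fs z v ≠ 0 ∧ fs z (u + v) ≠ 0 := by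
      intro u v hu hdu hdv huv hd'u hd'v hs
      obtain ⟨t, ht0, ht⟩ : ∃ t : F, t ≠ 0 ∧ fs d u + t * fs d' u ≠ 0 := by
        by_cases h1 : fs d u + 1 * fs d' u = 0
        · refine ⟨-1, neg_ne_zero.2 one_ne_zero, fun h => hdu ?_⟩
          exact (mul_eq_zero.1 (show (2 : F) * fs d u = 0 by linear_combination h1 + h)).resolve_left h2
        · exact ⟨1, one_ne_zero, h1⟩
      have hu' : ∀ {x : V4}, fs x u ≠ 0 → fs u x ≠ 0 := fun {x} h => by rw [form_antisymm]; exact neg_ne_zero.2 h
      have hzu : fs ((1 : F) • d + t • d' + (1 : F) • u) u ≠ 0 := by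
        rwa [form_add_left, form_add_left, form_smul_left, form_smul_left, form_smul_left, form_self', one_mul,
          mul_zero, add_zero]
      refine ⟨(1 : F) • d + t • d' + (1 : F) • u, ?_, hzu, ?_, ?_⟩
      · by_cases hdd : fs d d' = 0
        · exact hfamily hd hd' hu (hu' hdu) (hu' hd'u) hdd 1 t 1 one_ne_zero (hnon hzu)
        · have hx' : fs ((1 : F) • d + t • d') u ≠ 0 := by
            rwa [form_add_left, form_smul_left, form_smul_left, one_mul]
          simpa using hplane (hplane hd hd' hdd 1 t (hnon hx')) hu hx' 1 1 (by simpa using hnon hzu)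
      · rw [form_add_left, form_add_left, form_smul_left, form_smul_left, form_smul_left, hd'v, huv]
        simpa using hdv
      · rw [form_add_left, form_add_left, form_smul_left, form_smul_left, form_smul_left, hs, form_add u u v,
          form_self', huv, form_add d' u v, hd'v]
        simp only [mul_zero, add_zero, zero_add]
        exact mul_ne_zero ht0 hd'u
    by_cases hs : fs d (u + v) = 0
    swap
    · exact ⟨d, hd, hdu, hdv, hs⟩
    by_cases h1 : fs d' u = 0
    · have h2' : fs d' v ≠ 0 := fun e => hds (by rw [form_add, h1, e, add_zero])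
      obtain ⟨z, hz, ha', hb', hc'⟩ := hstep hv hdv hdu hvu h2' h1 (by rwa [add_comm])
      exact ⟨z, hz, hb', ha', by rwa [add_comm]⟩
    by_cases h2' : fs d' v = 0
    · exact hstep hu hdu hdv huv h1 h2' hs
    · exact ⟨d', hd', h1, h2', hds⟩
  let W : Submodule F V4 :=
    { carrier := {v | v = 0 ∨ Centre P v}
      zero_mem' := Or.inl rfl
      add_mem' := fun {u v} hu hv => by
        rcases hu with rfl | hu
        · rwa [zero_add]
        rcases hv with rfl | hv
        · rw [add_zero]; exact Or.inr hu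
        by_cases h : u + v = 0
        · exact Or.inl h
        · exact Or.inr (hsum hu hv h)
      smul_mem' := fun r {v} hv => by
        rcases hv with rfl | hv
        · exact Or.inl (smul_zero r)
        rcases eq_or_ne r 0 with rfl | hr
        · exact Or.inl (zero_smul F v)
        · exact Or.inr (hsmul hv hr) }
  have hW : W = ⊤ := hP.subspace_top ha (fun w c hm x _ => by
      rcases eq_or_ne c 0 with rfl | hc
      · rw [zero_mul, zero_smul]; exact W.zero_mem
      rcases eq_or_ne w 0 with rfl | hw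
      · rw [smul_zero]; exact W.zero_mem
      exact W.smul_mem _ (Or.inr ⟨hw, c, hc, hm⟩))
    (fun e => ha.1 ((Submodule.eq_bot_iff _).1 e a (Or.inr ha)))
  intro v c
  rcases eq_or_ne v 0 with rfl | hv
  · rw [show tg (0 : V4) c = 1 from gl_ext fun x => by rw [tg_apply, smul_zero, add_zero, gl_one_apply]]
    exact P.one_mem
  · exact hfull v ((show v = 0 ∨ Centre P v from (hW ▸ Submodule.mem_top : v ∈ W)).resolve_left hv) c

/-- A group with all transvections contains the symplectic group. -/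
theorem spGL_le (hall : ∀ v c, tg v c ∈ P) : Cfsg.spGL 2 F ≤ P := by
  intro g hg
  let φ : Matrix.symplecticGroup (Fin 2) F →* G4 := (Matrix.symplecticGroup (Fin 2) F).subtype.toHomUnits
  have hmem : g.1 ∈ Matrix.symplecticGroup (Fin 2) F := SymplecticGroup.mem_iff'.2 (transpose_J_mul hg)
  have hle : CfsgLib.SympGen.TV F 2 ≤ P.comap φ := (Subgroup.closure_le _).2 (by
    rintro x ⟨u, c, e⟩
    show φ x ∈ P
    rw [show φ x = tg u c from Units.ext e]
    exact hall u c)
  have htop : CfsgLib.SympGen.TV F 2 = ⊤ := CfsgLib.SympGen.TV_eq_top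
  have := hle (htop ▸ Subgroup.mem_top (⟨g.1, hmem⟩ : Matrix.symplecticGroup (Fin 2) F))
  rwa [Subgroup.mem_comap, show φ ⟨g.1, hmem⟩ = g from Units.ext rfl] at this

/-- An isometry moving every vector along a line is a transvection. -/
theorem exists_tg {g : G4} (hg : g ∈ Cfsg.spGL 2 F) (hne : g ≠ 1) {v : V4}
    (hrank : ∀ x, ∃ t : F, g.1 *ᵥ x = x + t • v) : ∃ c : F, v ≠ 0 ∧ c ≠ 0 ∧ g = tg v c := by
  choose t ht using hrank
  have hv : v ≠ 0 := fun e => hne (gl_ext fun x => by rw [ht, e, smul_zero, add_zero, gl_one_apply])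
  obtain ⟨y, hy⟩ : ∃ y, fs v y ≠ 0 := by
    by_contra! h
    exact hv (form_nondeg h)
  have hg' : g = tg v (-(t y) / fs v y) := gl_ext fun x => by
    rw [tg_apply, ht]
    congr 2
    have h : fs (g.1 *ᵥ x) (g.1 *ᵥ y) = fs x y := hg x y
    rw [ht, ht, form_add, form_add_left, form_add_left, form_smul, form_smul_left, form_smul_left, form_smul,
      form_self'] at h
    field_simp
    linear_combination h
  exact ⟨_, hv, fun e => hne (by rw [hg', e, tg_zero]), hg'⟩

/-- The transvection case does not occur. -/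
theorem transvection_case (hodd : Odd (Fintype.card F)) {H P : Subgroup G4}
    (hH : Cfsg.Geo.IsMaximalIn (Cfsg.spGL 2 F) H) (hres : Cfsg.Geo.IsResidualCore H P) {v : V4} {c : F}
    (hv : v ≠ 0) (hc : c ≠ 0) (hm : tg v c ∈ P) : False := by
  obtain ⟨p, hchar⟩ := CharP.exists F
  haveI : Fact p.Prime := ⟨CharP.char_is_prime F p⟩
  have hp2 : p ≠ 2 := fun e => by
    subst e
    obtain ⟨n, -, hn⟩ := FiniteField.card F 2
    rw [hn] at hodd
    exact Nat.not_even_iff_odd.2 hodd (Nat.even_pow.2 ⟨even_two, n.ne_zero⟩)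
  have h2 : (2 : F) ≠ 0 := fun e => hp2 ((Nat.prime_dvd_prime_iff_eq Fact.out Nat.prime_two).1
    ((CharP.cast_eq_zero_iff F p 2).1 (by exact_mod_cast e)))
  have hP : Setting P :=
    { two := h2
      sp := hres.le.trans hH.1.le
      perfect := hres.perfect
      simple := hres.simple
      absIrred := hres.absIrred
      prim := hres.no_subfield }
  exact hH.1.not_ge ((spGL_le (hP.all_centres p hp2 ⟨hv, c, hc, hm⟩)).trans hres.le)

/-- The rank one form of the transvection case. -/
theorem transvection_case' (hodd : Odd (Fintype.card F)) {H P : Subgroup G4}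
    (hH : Cfsg.Geo.IsMaximalIn (Cfsg.spGL 2 F) H) (hres : Cfsg.Geo.IsResidualCore H P) {g : G4} (hg : g ∈ P)
    (hne : g ≠ 1) {v : V4} (hrank : ∀ x, ∃ t : F, g.1 *ᵥ x = x + t • v) : False := by
  obtain ⟨c, hv, hc, rfl⟩ := exists_tg ((hres.le.trans hH.1.le) hg) hne hrank
  exact transvection_case hodd hH hres hv hc hg

end CfsgLib.Sp4Odd.R1
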