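import Cfsg.Agent.Lib.Sp4Odd.Q.Unipotent
import Cfsg.Agent.Lib.SympTransvection

/-!
Subgroups of the four-dimensional symplectic group containing a transvection: centres, conjugation and connectedness.
-/

set_option autoImplicit false
set_option linter.unusedSectionVars false

namespace CfsgLib.Sp4Odd.R1

open Matrix CfsgLib.Sp4Odd.Q

variable {F : Type*} [Field F]

local notation "S4" => (Fin 2 ⊕ Fin 2)
local notation "M4" => Matrix (Fin 2 ⊕ Fin 2) (Fin 2 ⊕ Fin 2) F
local notation "V4" => (Fin 2 ⊕ Fin 2 → F)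
local notation "G4" => Matrix.GeneralLinearGroup (Fin 2 ⊕ Fin 2) F
local notation "Zs" => Cfsg.Geo.scalars (Fin 2 ⊕ Fin 2) F
local notation "fs" => Cfsg.sympForm 2 F

/-- The hypotheses on the group. -/
structure Setting (P : Subgroup (Matrix.GeneralLinearGroup (Fin 2 ⊕ Fin 2) F)) : Prop where
  two : (2 : F) ≠ 0
  sp : P ≤ Cfsg.spGL 2 F
  perfect : ⁅P, P⁆ = P
  simple : IsSimpleGroup (P ⧸ (Cfsg.Geo.scalars (Fin 2 ⊕ Fin 2) F).subgroupOf P)
  absIrred : Cfsg.Geo.ActsAbsolutelyIrreducibly (Cfsg.Geo.matrixSet P)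
  prim : ∀ F₀ : Subfield F, F₀ ≠ ⊤ → ¬ Cfsg.Geo.RealisableOver F₀ (Cfsg.Geo.matrixSet P)

theorem form_self' (v : V4) : fs v v = 0 := CfsgLib.SympTransvection.dot_J_self v

/-- The nilpotent part of a transvection. -/
def nil (v : V4) (c : F) : M4 := c • vecMulVec v (Matrix.J (Fin 2) F *ᵥ v)

theorem nil_mulVec (v : V4) (c : F) (x : V4) : nil v c *ᵥ x = (c * fs x v) • v := by
  rw [nil, Matrix.smul_mulVec, Matrix.vecMulVec_mulVec, op_smul_eq_smul, smul_smul,
    dotProduct_comm (Matrix.J (Fin 2) F *ᵥ v) x]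
  rfl

theorem one_add_nil_mul (v : V4) (c d : F) : (1 + nil v c) * (1 + nil v d) = 1 + nil v (c + d) := by
  refine Matrix.ext_of_mulVec_single fun j => ?_
  simp only [← Matrix.mulVec_mulVec, Matrix.add_mulVec, Matrix.one_mulVec, nil_mulVec, form_add_left, form_smul_left,
    form_self']
  module

/-- The transvection. -/
def tg (v : V4) (c : F) : G4 where
  val := 1 + nil v c
  inv := 1 + nil v (-c)
  val_inv := by rw [one_add_nil_mul, add_neg_cancel]; simp [nil]
  inv_val := by rw [one_add_nil_mul, neg_add_cancel]; simp [nil]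

theorem tg_val (v : V4) (c : F) : (tg v c).1 = 1 + nil v c := rfl

theorem tg_apply (v : V4) (c : F) (x : V4) : (tg v c).1 *ᵥ x = x + (c * fs x v) • v := by
  rw [tg_val, Matrix.add_mulVec, Matrix.one_mulVec, nil_mulVec]

theorem gl_ext {g h : G4} (e : ∀ x, g.1 *ᵥ x = h.1 *ᵥ x) : g = h :=
  Units.ext (Matrix.ext_of_mulVec_single fun j => e _)

theorem gl_mul_apply (g h : G4) (x : V4) : (g * h).1 *ᵥ x = g.1 *ᵥ (h.1 *ᵥ x) := by
  rw [Units.val_mul, Matrix.mulVec_mulVec]

theorem gl_one_apply (x : V4) : (1 : G4).1 *ᵥ x = x := Matrix.one_mulVec x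

theorem gl_inv_apply (g : G4) (x : V4) : (g⁻¹).1 *ᵥ (g.1 *ᵥ x) = x := by
  rw [← gl_mul_apply, inv_mul_cancel, gl_one_apply]

theorem gl_apply_inv (g : G4) (x : V4) : g.1 *ᵥ ((g⁻¹).1 *ᵥ x) = x := by
  rw [← gl_mul_apply, mul_inv_cancel, gl_one_apply]

theorem tg_add (v : V4) (c d : F) : tg v c * tg v d = tg v (c + d) := Units.ext (one_add_nil_mul v c d)

theorem tg_zero (v : V4) : tg v (0 : F) = 1 := Units.ext (by simp [tg_val, nil])

theorem tg_inv (v : V4) (c : F) : (tg v c)⁻¹ = tg v (-c) :=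
  inv_eq_of_mul_eq_one_right (by rw [tg_add, add_neg_cancel, tg_zero])

theorem tg_smul (v : V4) (l c : F) : tg (l • v) c = tg v (l * l * c) := gl_ext fun x => by
  rw [tg_apply, tg_apply, form_smul, smul_smul]
  congr 2
  ring

theorem tg_mem_sp (v : V4) (c : F) : tg v c ∈ Cfsg.spGL 2 F := fun x y => by
  show fs ((tg v c).1 *ᵥ x) ((tg v c).1 *ᵥ y) = fs x y
  rw [tg_apply, tg_apply, form_add, form_add_left, form_add_left, form_smul_left, form_smul, form_smul_left,
    form_smul, form_self', form_antisymm v y]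
  ring

theorem tg_conj {g : G4} (hg : g ∈ Cfsg.spGL 2 F) (v : V4) (c : F) : g * tg v c * g⁻¹ = tg (g.1 *ᵥ v) c :=
  gl_ext fun x => by
    rw [gl_mul_apply, gl_mul_apply, tg_apply, tg_apply, Matrix.mulVec_add, Matrix.mulVec_smul, gl_apply_inv]
    congr 3
    have h := hg ((g⁻¹).1 *ᵥ x) v
    change fs (g.1 *ᵥ ((g⁻¹).1 *ᵥ x)) (g.1 *ᵥ v) = _ at h
    rw [gl_apply_inv] at h
    exact h.symm

theorem tg_ne_scalar {v : V4} (hv : v ≠ 0) {c : F} (hc : c ≠ 0) : tg v c ∉ Zs := fun h => by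
  obtain ⟨s, hs⟩ := (Cfsg.Geo.mem_scalars_iff _).1 h
  obtain ⟨x, hx⟩ : ∃ x, fs x v ≠ 0 := by
    by_contra! e
    exact hv (form_nondeg' e)
  have e : ∀ y, (tg v c).1 *ᵥ y = (s : F) • y := fun y => by rw [hs, Matrix.smul_mulVec, Matrix.one_mulVec]
  have hs1 : ((s : F) - 1) • v = 0 := by
    have := e v
    rw [tg_apply, form_self', mul_zero, zero_smul, add_zero] at this
    rw [sub_smul, one_smul, ← this, sub_self]
  have hs1' : (s : F) = 1 := sub_eq_zero.1 ((smul_eq_zero.1 hs1).resolve_right hv)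
  have := e x
  rw [tg_apply, hs1', one_smul, add_eq_left, smul_eq_zero] at this
  exact (mul_ne_zero hc hx) (this.resolve_right hv)

variable {P : Subgroup (Matrix.GeneralLinearGroup (Fin 2 ⊕ Fin 2) F)}

/-- The parameters of the transvections at a vector. -/
def params (P : Subgroup (Matrix.GeneralLinearGroup (Fin 2 ⊕ Fin 2) F)) (v : Fin 2 ⊕ Fin 2 → F) : AddSubgroup F where
  carrier := {c | tg v c ∈ P}
  zero_mem' := by show tg v 0 ∈ P; rw [tg_zero]; exact P.one_mem
  add_mem' := fun {c d} hc hd => by show tg v (c + d) ∈ P; rw [← tg_add]; exact P.mul_mem hc hd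
  neg_mem' := fun {c} hc => by show tg v (-c) ∈ P; rw [← tg_inv]; exact P.inv_mem hc

theorem mem_params {v : V4} {c : F} : c ∈ params P v ↔ tg v c ∈ P := Iff.rfl

/-- A centre. -/
def Centre (P : Subgroup (Matrix.GeneralLinearGroup (Fin 2 ⊕ Fin 2) F)) (v : Fin 2 ⊕ Fin 2 → F) : Prop :=
  v ≠ 0 ∧ ∃ c, c ≠ 0 ∧ tg v c ∈ P

theorem Setting.conj_mem (hP : Setting P) {g : G4} (hg : g ∈ P) {v : V4} {c : F} (h : tg v c ∈ P) :
    tg (g.1 *ᵥ v) c ∈ P := by
  rw [← tg_conj (hP.sp hg)]
  exact P.mul_mem (P.mul_mem hg h) (P.inv_mem hg)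

theorem Setting.centre_map (hP : Setting P) {g : G4} (hg : g ∈ P) {v : V4} (h : Centre P v) :
    Centre P (g.1 *ᵥ v) := by
  obtain ⟨hv, c, hc, hm⟩ := h
  refine ⟨fun e => hv ?_, c, hc, hP.conj_mem hg hm⟩
  rw [← gl_inv_apply g v, e, Matrix.mulVec_zero]

theorem Setting.centre_step (hP : Setting P) {u v : V4} (hu : Centre P u) {d : F} (hd : tg v d ∈ P) :
    Centre P (u + (d * fs u v) • v) := by
  rw [← tg_apply]; exact hP.centre_map hd hu

/-- The transvections generate the group. -/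
theorem Setting.le_of_centres (hP : Setting P) {a : V4} (ha : Centre P a) (M : Subgroup G4)
    (hM : ∀ v c, tg v c ∈ P → tg v c ∈ M) : P ≤ M := by
  classical
  let S : Set P := {x | ∃ v c, (x : G4) = tg v c}
  have hconj : ∀ x ∈ S, ∀ g : P, g * x * g⁻¹ ∈ S := fun x ⟨v, c, e⟩ g =>
    ⟨(g : G4).1 *ᵥ v, c, by rw [Subgroup.coe_mul, Subgroup.coe_mul, Subgroup.coe_inv, e, tg_conj (hP.sp g.2)]⟩
  let N : Subgroup P := Subgroup.normalClosure S
  have hNM : N ≤ M.subgroupOf P := by
    refine (Subgroup.closure_le _).2 fun x hx => ?_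
    obtain ⟨y, hy, hyx⟩ := Group.mem_conjugatesOfSet_iff.1 hx
    obtain ⟨g, rfl⟩ := isConj_iff.1 hyx
    obtain ⟨v, c, e⟩ := hconj y hy g
    show (↑(g * y * g⁻¹) : G4) ∈ M
    rw [e]
    exact hM v c (e ▸ (g * y * g⁻¹).2)
  suffices hN : N = ⊤ from fun g hg => hNM (hN ▸ Subgroup.mem_top (⟨g, hg⟩ : P))
  obtain ⟨ha0, c, hc, hm⟩ := ha
  haveI := hP.simple
  haveI : Group.IsPerfect P := ⟨Subgroup.map_injective P.subtype_injective (by
    rw [Subgroup.map_subtype_commutator, ← MonoidHom.range_eq_map, Subgroup.range_subtype]; exact hP.perfect)⟩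
  rcases (Subgroup.Normal.map (inferInstance : N.Normal) (QuotientGroup.mk' (Subgroup.subgroupOf Zs P))
    (QuotientGroup.mk'_surjective _)).eq_bot_or_eq_top with h | h
  · exfalso
    rw [Subgroup.map_eq_bot_iff, QuotientGroup.ker_mk'] at h
    exact tg_ne_scalar ha0 hc (h (Subgroup.subset_normalClosure (⟨a, c, rfl⟩ : (⟨tg a c, hm⟩ : P) ∈ S)))
  · have hsup : N ⊔ Subgroup.subgroupOf Zs P = ⊤ := by
      have := congrArg (Subgroup.comap (QuotientGroup.mk' (Subgroup.subgroupOf Zs P))) h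
      rwa [Subgroup.comap_map_eq, QuotientGroup.ker_mk', Subgroup.comap_top] at this
    have hcomm : ∀ a b : P ⧸ N, a * b = b * a := by
      intro a b
      obtain ⟨x, rfl⟩ := QuotientGroup.mk'_surjective N a
      obtain ⟨y, rfl⟩ := QuotientGroup.mk'_surjective N b
      obtain ⟨n, hn, z, hz, rfl⟩ := Subgroup.mem_sup_of_normal_left.1 (hsup ▸ Subgroup.mem_top x)
      have h1 : QuotientGroup.mk' N n = 1 := (QuotientGroup.eq_one_iff n).2 hn
      have hzy : y * z = z * y := Subtype.ext (Units.ext (by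
        obtain ⟨s, hs⟩ := (Cfsg.Geo.mem_scalars_iff _).1 hz
        have hs : (z : G4).1 = (s : F) • 1 := hs
        show (y : G4).1 * (z : G4).1 = (z : G4).1 * (y : G4).1
        rw [hs, Matrix.mul_smul, Matrix.smul_mul, mul_one, one_mul]))
      rw [map_mul, h1, one_mul, ← map_mul, ← map_mul, hzy]
    haveI : IsMulCommutative (P ⧸ N) := ⟨⟨hcomm⟩⟩
    haveI : Group.IsPerfect (P ⧸ N) :=
      Group.IsPerfect.ofSurjective (f := QuotientGroup.mk' N) (QuotientGroup.mk'_surjective N)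
    have : Subsingleton (P ⧸ N) := Group.IsPerfect.subsingleton_of_isMulCommutative
    exact QuotientGroup.subgroup_eq_top_of_subsingleton N this

/-- A nonzero subspace stable under all transvections of the group is everything. -/
theorem Setting.subspace_top (hP : Setting P) {a : V4} (ha : Centre P a) {W : Submodule F V4}
    (hW : ∀ v c, tg v c ∈ P → ∀ w ∈ W, (c * fs w v) • v ∈ W) (h0 : W ≠ ⊥) : W = ⊤ := by
  let M : Subgroup G4 :=
    { carrier := {g | (∀ w ∈ W, g.1 *ᵥ w ∈ W) ∧ ∀ w ∈ W, (g⁻¹).1 *ᵥ w ∈ W}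
      one_mem' := ⟨fun w hw => by rwa [gl_one_apply], fun w hw => by rwa [inv_one, gl_one_apply]⟩
      mul_mem' := fun {g h} hg hh => ⟨fun w hw => by rw [gl_mul_apply]; exact hg.1 _ (hh.1 w hw),
        fun w hw => by rw [_root_.mul_inv_rev, gl_mul_apply]; exact hh.2 _ (hg.2 w hw)⟩
      inv_mem' := fun {g} hg => ⟨hg.2, by rw [inv_inv]; exact hg.1⟩ }
  have hle : P ≤ M := hP.le_of_centres ha M fun v c hm =>
    ⟨fun w hw => by rw [tg_apply]; exact W.add_mem hw (hW v c hm w hw), fun w hw => by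
      rw [tg_inv, tg_apply]
      exact W.add_mem hw (hW v (-c) (by rw [← tg_inv]; exact P.inv_mem hm) w hw)⟩
  rcases hP.absIrred.1 W (by
    rintro _ ⟨g, hg, rfl⟩ y ⟨w, hw, rfl⟩
    rw [Matrix.toLin'_apply]
    exact (hle hg).1 w hw) with e | e
  · exact absurd e h0
  · exact e

/-- Centres are connected by non-orthogonality. -/
theorem Setting.connected (hP : Setting P) (Q : V4 → Prop) {a : V4} (ha : Centre P a) (hQ : Q a)
    (hstep : ∀ u v, Centre P u → Q u → Centre P v → fs u v ≠ 0 → Q v) : ∀ v, Centre P v → Q v := by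
  intro v hv
  let W := Submodule.span F {u : V4 | Centre P u ∧ Q u}
  have hperp : ∀ w, (∀ u, Centre P u → Q u → fs u w = 0) → ∀ x ∈ W, fs x w = 0 := by
    intro w hw x hx
    induction hx using Submodule.span_induction with
    | mem u hu => exact hw u hu.1 hu.2
    | zero => exact form_zero_left w
    | add u v _ _ hu hv => rw [form_add_left, hu, hv, add_zero]
    | smul r u _ hu => rw [form_smul_left, hu, mul_zero]
  have hW : W = ⊤ := hP.subspace_top ha (fun w c hm x hx => by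
      by_cases hall : ∀ u, Centre P u → Q u → fs u w = 0
      · rw [hperp w hall x hx, mul_zero, zero_smul]; exact W.zero_mem
      · push Not at hall
        obtain ⟨u, hu, hQu, hne⟩ := hall
        rcases eq_or_ne c 0 with rfl | hc
        · rw [zero_mul, zero_smul]; exact W.zero_mem
        have hw0 : w ≠ 0 := fun e => hne (by rw [e, form_zero_right])
        exact W.smul_mem _ (Submodule.subset_span ⟨⟨hw0, c, hc, hm⟩, hstep u w hu hQu ⟨hw0, c, hc, hm⟩ hne⟩))
    (fun e => ha.1 ((Submodule.eq_bot_iff _).1 e a (Submodule.subset_span ⟨ha, hQ⟩)))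
  by_contra hQv
  exact hv.1 (form_nondeg' fun x => hperp v (fun u hu hQu => by
    by_contra hne
    exact hQv (hstep u v hu hQu hv hne)) x (hW ▸ Submodule.mem_top))

/-- Every centre has a non-orthogonal centre. -/
theorem Setting.exists_opposite (hP : Setting P) {a : V4} (ha : Centre P a) : ∃ b, Centre P b ∧ fs a b ≠ 0 := by
  by_contra! h
  have hall := hP.connected (fun v => fs a v = 0) ha (form_self' a) fun u v _ _ hv _ => h v hv
  have hW : Submodule.span F {v : V4 | Centre P v} = ⊤ := hP.subspace_top ha (fun w c hm x _ => by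
      rcases eq_or_ne c 0 with rfl | hc
      · rw [zero_mul, zero_smul]; exact Submodule.zero_mem _
      rcases eq_or_ne w 0 with rfl | hw
      · rw [smul_zero]; exact Submodule.zero_mem _
      exact Submodule.smul_mem _ _ (Submodule.subset_span ⟨hw, c, hc, hm⟩))
    (fun e => ha.1 ((Submodule.eq_bot_iff _).1 e a (Submodule.subset_span ha)))
  refine ha.1 (form_nondeg fun x => ?_)
  have hx : x ∈ Submodule.span F {v : V4 | Centre P v} := hW ▸ Submodule.mem_top
  induction hx using Submodule.span_induction with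
  | mem v hv => exact hall v hv
  | zero => exact form_zero_right a
  | add u v _ _ hu hv => rw [form_add, hu, hv, add_zero]
  | smul r u _ hu => rw [form_smul, hu, mul_zero]

end CfsgLib.Sp4Odd.R1
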