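import Cfsg.Agent.Lib.Sp4Odd.R1.Basic
import Cfsg.Agent.Lib.MaxSub.ResThree.Tv.Pair

/-!
Two non-orthogonal centres: the parameters form a scaled subfield, apart from the icosahedral pair in characteristic
three; all parameter groups have the same order.
-/

set_option autoImplicit false
set_option linter.unusedSectionVars false

namespace CfsgLib.Sp4Odd.R1

open Matrix CfsgLib.Sp4Odd.Q CfsgLib.Dickson

variable {F : Type*} [Field F] [Fintype F]

local notation "V4" => (Fin 2 ⊕ Fin 2 → F)
local notation "M4" => Matrix (Fin 2 ⊕ Fin 2) (Fin 2 ⊕ Fin 2) F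
local notation "G4" => Matrix.GeneralLinearGroup (Fin 2 ⊕ Fin 2) F
local notation "SL" => Matrix.SpecialLinearGroup (Fin 2) F
local notation "fs" => Cfsg.sympForm 2 F

/-- The action of a two by two matrix on the plane of a pair, fixing its orthogonal. -/
def planeMap (a b : V4) (g : Matrix (Fin 2) (Fin 2) F) : V4 →ₗ[F] V4 where
  toFun x := x + ((g 0 0 - 1) * (fs x b / fs a b) + g 0 1 * (fs a x / fs a b)) • a +
    (g 1 0 * (fs x b / fs a b) + (g 1 1 - 1) * (fs a x / fs a b)) • b
  map_add' x y := by simp only [form_add_left, form_add, add_div]; module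
  map_smul' r x := by simp only [form_smul_left, form_smul, RingHom.id_apply, mul_div_assoc]; module

theorem planeMap_apply (a b : V4) (g : Matrix (Fin 2) (Fin 2) F) (x : V4) :
    planeMap a b g x = x + ((g 0 0 - 1) * (fs x b / fs a b) + g 0 1 * (fs a x / fs a b)) • a +
      (g 1 0 * (fs x b / fs a b) + (g 1 1 - 1) * (fs a x / fs a b)) • b := rfl

theorem planeMap_mul {a b : V4} (hu : fs a b ≠ 0) (g h : Matrix (Fin 2) (Fin 2) F) (x : V4) :
    planeMap a b g (planeMap a b h x) = planeMap a b (g * h) x := by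
  simp only [planeMap_apply, form_add_left, form_add, form_smul_left, form_smul, form_self', Matrix.mul_apply,
    Fin.sum_univ_two, add_div, mul_div_assoc, mul_zero, zero_div, add_zero, div_self hu, mul_one]
  module

theorem planeMap_one (a b : V4) (x : V4) : planeMap a b 1 x = x := by simp [planeMap_apply]

/-- The copy of the special linear group on the plane of a pair. -/
noncomputable def planeHom (a b : V4) (hu : fs a b ≠ 0) : SL →* G4 :=
  MonoidHom.toHomUnits
    { toFun := fun g => LinearMap.toMatrix' (planeMap a b g.1)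
      map_one' := by
        refine Matrix.ext_of_mulVec_single fun j => ?_
        rw [← Matrix.toLin'_apply, Matrix.toLin'_toMatrix', Matrix.SpecialLinearGroup.coe_one, planeMap_one,
          Matrix.one_mulVec]
      map_mul' := fun g h => by
        refine Matrix.ext_of_mulVec_single fun j => ?_
        rw [← Matrix.mulVec_mulVec, ← Matrix.toLin'_apply, ← Matrix.toLin'_apply, ← Matrix.toLin'_apply,
          Matrix.toLin'_toMatrix', Matrix.toLin'_toMatrix', Matrix.toLin'_toMatrix', planeMap_mul hu,
          Matrix.SpecialLinearGroup.coe_mul] }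

theorem planeHom_apply (a b : V4) (hu : fs a b ≠ 0) (g : SL) (x : V4) :
    (planeHom a b hu g).1 *ᵥ x = planeMap a b g.1 x := by
  show LinearMap.toMatrix' (planeMap a b g.1) *ᵥ x = _
  rw [← Matrix.toLin'_apply, Matrix.toLin'_toMatrix']

theorem plane_up {a b : V4} (hu : fs a b ≠ 0) (t : F) : planeHom a b hu (up t) = tg a (-t / fs a b) :=
  gl_ext fun x => by
    rw [planeHom_apply, planeMap_apply, tg_apply, form_antisymm x a]
    simp [up]
    module

theorem plane_lo {a b : V4} (hu : fs a b ≠ 0) (s : F) : planeHom a b hu (lo s) = tg b (s / fs a b) :=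
  gl_ext fun x => by
    rw [planeHom_apply, planeMap_apply, tg_apply]
    simp [lo]
    ring_nf

variable {P : Subgroup (Matrix.GeneralLinearGroup (Fin 2 ⊕ Fin 2) F)}

theorem le_card_params (p : ℕ) [Fact p.Prime] [CharP F p] {v : V4} {c : F} (hc : c ≠ 0) (h : c ∈ params P v) :
    p ≤ Nat.card (params P v) := by
  have hinj : Function.Injective (fun i : Fin p => (⟨(i : ℕ) • c, (params P v).nsmul_mem h _⟩ : params P v)) :=
    fun i j e => Fin.ext (CharP.natCast_injOn_Iio F p i.2 j.2 (mul_right_cancel₀ hc (by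
      simpa [nsmul_eq_mul] using congrArg Subtype.val e)))
  simpa using Nat.card_le_card_of_injective _ hinj

/-- A pair of non-orthogonal centres. -/
theorem pair_cases (p : ℕ) [Fact p.Prime] [CharP F p] (hp : p ≠ 2) {a b : V4} (hu : fs a b ≠ 0) {c d : F}
    (hc : c ≠ 0) (hd : d ≠ 0) (hca : c ∈ params P a) (hdb : d ∈ params P b) :
    (∃ K : Subfield F, Nat.card K = Nat.card (params P a) ∧ Nat.card K = Nat.card (params P b) ∧
      (∀ t, t ∈ params P a ↔ t / c ∈ K) ∧ c * d * (fs a b * fs a b) ∈ K) ∨
    (p = 3 ∧ Nat.card (params P a) = 3 ∧ ((c * d * (fs a b * fs a b)) ^ 3 = c * d * (fs a b * fs a b) ∨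
      (c * d * (fs a b * fs a b)) ^ 2 = -1)) := by
  classical
  set u := fs a b with hu'
  let G := P.comap (planeHom a b hu)
  have hup : ∀ t, up t ∈ G ↔ -t / u ∈ params P a := fun t => by
    rw [Subgroup.mem_comap, plane_up]; rfl
  have hlo : ∀ s, lo s ∈ G ↔ s / u ∈ params P b := fun s => by
    rw [Subgroup.mem_comap, plane_lo]; rfl
  let e : params P a ≃ param G :=
    { toFun := fun t => ⟨-((t : F) * u), (hup _).2 (by rw [neg_neg, mul_div_cancel_right₀ _ hu]; exact t.2)⟩
      invFun := fun x => ⟨-(x : F) / u, (hup _).1 x.2⟩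
      left_inv := fun t => Subtype.ext (by
        show -(-((t : F) * u)) / u = t
        rw [neg_neg, mul_div_cancel_right₀ _ hu])
      right_inv := fun x => Subtype.ext (by
        show -(-(x : F) / u * u) = x
        rw [div_mul_cancel₀ _ hu, neg_neg]) }
  have hcard := Nat.card_congr e
  have h3 : 3 ≤ Nat.card (params P a) := by
    have := le_card_params p hc hca
    have := (Fact.out : p.Prime).two_le
    omega
  have hb : up (-(c * u)) ∈ G := (hup _).2 (by rw [neg_neg, mul_div_cancel_right₀ _ hu]; exact hca)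
  have hl : lo (d * u) ∈ G := (hlo _).2 (by rw [mul_div_cancel_right₀ _ hu]; exact hdb)
  have hbne : -(c * u) ≠ 0 := neg_ne_zero.2 (mul_ne_zero hc hu)
  rcases CfsgLib.ResThree.Tv.pair_field p G hbne hb (mul_ne_zero hd hu) hl (hcard ▸ h3) with
    ⟨K, hK, hKu, hKl⟩ | ⟨hp3, hq, hθ⟩
  · refine Or.inl ⟨K, hK.trans hcard.symm, ?_, fun t => ?_, ?_⟩
    · refine Nat.card_congr
        { toFun := fun k => ⟨(k : F) / -(c * u) / u, (hlo _).1 ((hKl _).2 (by rw [div_mul_cancel₀ _ hbne]; exact k.2))⟩
          invFun := fun s => ⟨(s : F) * u * -(c * u), (hKl _).1 ((hlo _).2 (by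
            rw [mul_div_cancel_right₀ _ hu]; exact s.2))⟩
          left_inv := fun k => Subtype.ext (by
            show (k : F) / -(c * u) / u * u * -(c * u) = k
            rw [div_mul_cancel₀ _ hu, div_mul_cancel₀ _ hbne])
          right_inv := fun s => Subtype.ext (by
            show (s : F) * u * -(c * u) / -(c * u) / u = s
            rw [mul_div_cancel_right₀ _ hbne, mul_div_cancel_right₀ _ hu]) }
    · have h := hup (-(t * u))
      rw [neg_neg, mul_div_cancel_right₀ _ hu, hKu, neg_div_neg_eq, mul_div_mul_right _ _ hu] at h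
      exact h.symm
    · have h := K.neg_mem ((hKl _).1 hl)
      rwa [show c * d * (u * u) = -(d * u * -(c * u)) by ring]
  · refine Or.inr ⟨hp3, hcard.trans hq, ?_⟩
    rw [show -(c * u) * (d * u) = -(c * d * (u * u)) by ring] at hθ
    rcases hθ with h | h | h
    · left
      rw [neg_eq_iff_eq_neg.1 h]
      ring
    · left
      rw [neg_inj.1 h]
      ring
    · right
      rwa [neg_sq] at h

/-- All parameter groups have the same order. -/
theorem Setting.card_params (hP : Setting P) (p : ℕ) [Fact p.Prime] [CharP F p] (hp : p ≠ 2) {a : V4}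
    (ha : Centre P a) {v : V4} (hv : Centre P v) : Nat.card (params P v) = Nat.card (params P a) := by
  refine hP.connected (fun v => Nat.card (params P v) = Nat.card (params P a)) ha rfl (fun u w hu hQ hw hne => ?_) v hv
  obtain ⟨-, c, hc, hcm⟩ := hu
  obtain ⟨-, d, hd, hdm⟩ := hw
  rw [← hQ]
  rcases pair_cases (P := P) p hp hne hc hd hcm hdm with ⟨K, h1, h2, -, -⟩ | ⟨-, h1, -⟩
  · rw [← h1, h2]
  · have hne' : fs w u ≠ 0 := by rw [form_antisymm]; exact neg_ne_zero.2 hne
    rcases pair_cases (P := P) p hp hne' hd hc hdm hcm with ⟨K, h1', h2', -, -⟩ | ⟨-, h1', -⟩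
    · rw [← h1', h2']
    · rw [h1', h1]

end CfsgLib.Sp4Odd.R1
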